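import Cfsg.Agent.H940.Cover

/-!
# A faster version of the check `chkO` of the covering argument (helper493)

The membership in the list of orders is tested last.
-/

set_option autoImplicit false

namespace Cfsg.Agent.H493.Sep

open Subgroup Cfsg.Agent.OrdDiv Cfsg.Agent.H940 Cfsg.Agent.H940.Eng

/-- `chkO`, with the tests in another order -/
def chkF (l : List (ℕ × ℕ)) (n a : ℕ) (lD : List (ℕ × ℕ)) (os full : List ℕ) (bd : ℕ) (loc : List LD) (ords : List ℕ) : Bool :=
  (lD.all fun x => isPrimeB x.1) && Nat.beq (a * prodl lD) n &&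
    (divsT lD).all fun d => bad l n full bd loc ords (n / d) || Nat.beq d 1 || os.any (Nat.beq (n / d))

theorem chkO_of {l : List (ℕ × ℕ)} {n a : ℕ} {lD : List (ℕ × ℕ)} {os full : List ℕ} {bd : ℕ} {loc : List LD} {ords : List ℕ}
    (h : chkF l n a lD os full bd loc ords = true) : chkO l n a lD os full bd loc ords = true := by
  unfold chkF at h
  unfold chkO
  rw [Bool.and_eq_true, Bool.and_eq_true, List.all_eq_true, List.all_eq_true] at h ⊢
  obtain ⟨⟨h1, h2⟩, h3⟩ := h
  refine ⟨⟨h1, by rw [beq_iff_eq]; exact Nat.eq_of_beq_eq_true h2⟩, fun d hd => ?_⟩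
  have h4 := h3 d hd
  rw [Bool.or_eq_true, Bool.or_eq_true] at h4 ⊢
  rcases h4 with (h4 | h4) | h4
  · exact Or.inr h4
  · exact Or.inl (Or.inl (by rw [beq_iff_eq]; exact Nat.eq_of_beq_eq_true h4))
  · refine Or.inl (Or.inr ?_)
    rw [List.any_eq_true] at h4
    obtain ⟨x, hx, h5⟩ := h4
    rw [List.contains_iff_mem, Nat.eq_of_beq_eq_true h5]
    exact hx

end Cfsg.Agent.H493.Sep
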