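import Cfsg.Agent.H493.Sep.Iso
import Cfsg.Agent.H493.Sep.Fast

/-!
# Small tools for the sporadic rows of S5906/S5907 (helper493)
-/

set_option autoImplicit false

namespace Cfsg.Agent.H493.Sep

open Subgroup Cfsg.Agent.OrdDiv Cfsg.Agent.H940 Cfsg.Agent.H940.Eng

universe u

variable {G : Type u} [Group G] {n : ℕ}

theorem norm_ne_top [IsSimpleGroup G] (hc : Nat.card G = n) {Q : Subgroup G} {k : ℕ} (h1 : Nat.card Q = k) (h2 : k ≠ 1)
    (h3 : (k != n) = true) : normalizer (Q : Set G) ≠ ⊤ := by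
  refine normalizer_ne_top ?_ ?_
  · rintro rfl
    rw [card_bot] at h1
    exact h2 h1.symm
  · rintro rfl
    rw [card_top, hc] at h1
    rw [bne_iff_ne] at h3
    exact h3 h1.symm

theorem card_sylow_eq [Finite G] (hc : Nat.card G = n) {p k : ℕ} [hp : Fact p.Prime] (P : Sylow p G) (h1 : n % p ^ k = 0)
    (h2 : n % p ^ (k + 1) ≠ 0) : Nat.card (P : Subgroup G) = p ^ k := by
  have hn : n ≠ 0 := by rintro rfl; simp at h2
  rw [P.card_eq_multiplicity, hc]
  congr 1
  have h3 : k ≤ n.factorization p := (hp.out.pow_dvd_iff_le_factorization hn).1 (Nat.dvd_of_mod_eq_zero h1)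
  have h4 : ¬ k + 1 ≤ n.factorization p := fun h => h2 (Nat.mod_eq_zero_of_dvd
    ((hp.out.pow_dvd_iff_le_factorization hn).2 h))
  omega

theorem full_of_singleton [Finite G] (hc : Nat.card G = n) {r : ℕ} {R : Subgroup G} (hr : isPrimeB r = true)
    (h2 : (n % (r ^ 2) != 0) = true) (hR : Nat.card R = r) : ∀ p ∈ [r], Full p (normalizer (R : Set G)) := by
  intro p hp
  rw [List.mem_singleton.1 hp]
  exact full_of_card hc hr h2 hR

theorem full_sylow {p : ℕ} [hp : Fact p.Prime] (P : Sylow p G) : ∀ q ∈ [p], Full q (normalizer ((P : Subgroup G) : Set G)) := by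
  intro q hq
  rw [List.mem_singleton.1 hq]
  exact full_normalizer hp.out P

theorem full_nil (A : Subgroup G) : ∀ p ∈ ([] : List ℕ), Full p A := fun _ hp => absurd hp List.not_mem_nil

theorem dvd_norm {R : Subgroup G} {k : ℕ} (h : Nat.card R = k) : k ∣ Nat.card (normalizer (R : Set G)) := by
  rw [← h]
  exact card_dvd_of_le le_normalizer

theorem ne_top_of_card (hc : Nat.card G = n) {A : Subgroup G} {k : ℕ} (h : Nat.card A = k) (hk : (k != n) = true) : A ≠ ⊤ := by
  rintro rfl
  rw [card_top, hc] at h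
  rw [bne_iff_ne] at hk
  exact hk h.symm

end Cfsg.Agent.H493.Sep
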