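import Cfsg.Agent.H493.Sep.ONData
import Cfsg.Agent.H493.Sep.RowTools

/-!
# Row `O'N` of S5906/S5907 (helper493)

The covering argument with the Sylow normalizers for 3, 11, 31, the centralizer of an involution and `L₃(7) : 2`.
-/

set_option autoImplicit false
set_option maxRecDepth 100000

namespace Cfsg.Agent.H493.Sep.RowON

open Subgroup Cfsg.Agent.OrdDiv Cfsg.Agent.H940 Cfsg.Agent.H940.Eng Cfsg.Agent.H940.Eng.D Cfsg.Agent.H940.MaxCls
  Cfsg.Agent.H493.Sep.ONLoc
open Cfsg.Agent.SporadicB.ON45Word (on)

/-- the local data -/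
def loc : List LD := [⟨11, 1485, [(2, 1), (3, 3), (5, 1), (11, 1)]⟩, ⟨19, 57, [(2, 1), (3, 1), (19, 1)]⟩,
  ⟨31, 7595, [(2, 1), (3, 1), (5, 1), (7, 2), (31, 1)]⟩]

theorem ctx (B : Base) : Ctx G l_opn n_opn o_opn loc where
  fin := fin
  simple := simple
  card := card
  val := v_opn
  nodup := nd_opn
  ords := ords_opn B
  loc := by
    intro ld hld
    simp only [loc, List.mem_cons, List.not_mem_nil, or_false] at hld
    rcases hld with rfl | rfl | rfl
    · exact loc11 B
    · exact loc19
    · exact loc31 B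

/-- H -/
def iH : CI := ⟨0, 3753792, [], [3753792]⟩

def lH : List (ℕ × ℕ) := [(2, 3), (3, 2), (5, 1), (11, 1), (31, 1)]

theorem cH : chkF l_opn n_opn iH.a lH iH.ords iH.full 60 loc o_opn = true := by decide +kernel

/-- N31 -/
def iN31 : CI := ⟨1, 31, [31], [465, 9114, 14880, 291648]⟩

def lN31 : List (ℕ × ℕ) := [(2, 9), (3, 4), (5, 1), (7, 3), (11, 1), (19, 1)]

theorem cN31 : chkF l_opn n_opn iN31.a lN31 iN31.ords iN31.full 60 loc o_opn = true := by decide +kernel

/-- N11 -/
def iN11 : CI := ⟨2, 11, [11], [110, 594, 1320, 15840, 175560, 190080, 887040]⟩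

def lN11 : List (ℕ × ℕ) := [(2, 9), (3, 4), (5, 1), (7, 3), (19, 1), (31, 1)]

theorem cN11 : chkF l_opn n_opn iN11.a lN11 iN11.ords iN11.full 60 loc o_opn = true := by decide +kernel

/-- C2 -/
def iC2 : CI := ⟨3, 161280, [], [161280, 483840, 1128960, 1451520, 3386880, 7902720, 10160640, 23708160, 71124480]⟩

def lC2 : List (ℕ × ℕ) := [(3, 2), (7, 2), (11, 1), (19, 1), (31, 1)]

theorem cC2 : chkF l_opn n_opn iC2.a lC2 iC2.ords iC2.full 60 loc o_opn = true := by decide +kernel

/-- P3 -/
def iP3 : CI := ⟨4, 81, [3], [162, 405, 648, 1134, 1620, 2592, 2835, 4536, 6480, 7938, 8910, 10368, 11340, 18144, 19845, 25920, 31752, 35640, 41472, 45360, 55566, 72576, 79380, 103680, 127008, 138915, 142560, 181440, 222264, 290304, 317520, 508032, 555660, 570240, 725760, 889056, 1270080, 2032128, 2222640, 3556224, 3991680, 5080320, 5515776, 8890560, 14224896, 35562240]⟩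

def lP3 : List (ℕ × ℕ) := [(2, 9), (5, 1), (7, 3), (11, 1), (19, 1), (31, 1)]

theorem cP3 : chkF l_opn n_opn iP3.a lP3 iP3.ords iP3.full 60 loc o_opn = true := by decide +kernel

def items : List CI := [iH, iN31, iN11, iC2, iP3]

theorem cov : covB n_opn (fun _ _ => false) 4 items = true := by decide +kernel

/-- the row `O'N` -/
theorem five (B : Base) : Sep 5 G := by
  have c := ctx B
  have := c.fin
  have := c.simple
  have hc := card
  have := Fact.mk (by norm_num : Nat.Prime 3)
  obtain ⟨P3⟩ : Nonempty (Sylow 3 G) := inferInstance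
  have c3 := card_sylow_eq hc P3 (k := 4) (by decide +kernel) (by decide +kernel)
  obtain ⟨R11, h11⟩ := exists_card_eq (G := G) (r := 11) (by decide +kernel) (by rw [hc]; decide +kernel)
  obtain ⟨R31, h31⟩ := exists_card_eq (G := G) (r := 31) (by decide +kernel) (by rw [hc]; decide +kernel)
  obtain ⟨H, -, -, -, -, hi, -⟩ := ONGeo.exists_H
  have hHc : Nat.card H = 3753792 := by
    have h1 := card_mul_index H
    rw [hi, card] at h1
    have h2 : n_opn = 3753792 * 122760 := by decide +kernel
    rw [h2] at h1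
    exact Nat.eq_of_mul_eq_mul_right (by norm_num) h1
  let A : CI → Subgroup G := fun x =>
    if x.id = 0 then H else if x.id = 1 then normalizer (R31 : Set G) else if x.id = 2 then normalizer (R11 : Set G)
    else if x.id = 3 then centralizer ({on .f} : Set G) else normalizer ((P3 : Subgroup G) : Set G)
  refine sep_of_cover hc (fun _ _ => false) items A ?_ (fun x _ y _ h => absurd h (by decide)) cov
  intro x hx
  simp only [items, List.mem_cons, List.not_mem_nil, or_false] at hx
  rcases hx with rfl | rfl | rfl | rfl | rfl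
  · exact c.goodD (A := H) (ne_top_of_card hc hHc (by decide +kernel)) (by rw [hHc]; decide +kernel) (full_nil _) lH 60 (chkO_of cH)
  · exact c.goodD (A := normalizer (R31 : Set G)) (norm_ne_top hc h31 (by norm_num) (by decide +kernel)) (dvd_norm h31)
      (full_of_singleton hc (by decide +kernel) (by decide +kernel) h31) lN31 60 (chkO_of cN31)
  · exact c.goodD (A := normalizer (R11 : Set G)) (norm_ne_top hc h11 (by norm_num) (by decide +kernel)) (dvd_norm h11)
      (full_of_singleton hc (by decide +kernel) (by decide +kernel) h11) lN11 60 (chkO_of cN11)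
  · exact c.goodD (A := centralizer ({on .f} : Set G)) (ne_top_of_card hc card_cent (by decide +kernel))
      (by rw [card_cent]; decide +kernel) (full_nil _) lC2 60 (chkO_of cC2)
  · exact c.goodD (A := normalizer ((P3 : Subgroup G) : Set G)) (norm_ne_top hc c3 (by norm_num) (by decide +kernel))
      (dvd_norm c3) (full_sylow P3) lP3 60 (chkO_of cP3)

end Cfsg.Agent.H493.Sep.RowON
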