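import Cfsg.Agent.H493.Sep.LyLoc

/-!
# Local data of the Lyons group at the primes 31, 37, 67 (helper493), part 2
-/

set_option autoImplicit false
set_option maxRecDepth 100000

namespace Cfsg.Agent.H493.Sep.LyLoc

open Subgroup Cfsg.Agent.OrdDiv Cfsg.Agent.H940 Cfsg.Agent.H940.Eng Cfsg.Agent.H940.Eng.D

/-! ### the prime 31 -/

/-- `G₂(5)` -/
noncomputable def H : Subgroup G := Cfsg.Agent.Ly.Setup.psi.range

theorem card_H : Nat.card H = 5859000000 := Cfsg.Agent.Ly.Setup.card_range

theorem normalizer_le {R : Subgroup G} (hR : Nat.card R = 31) (hRH : R ≤ H) : normalizer (R : Set G) ≤ H := by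
  intro n hn
  obtain ⟨i, h1, hh1, h2, hh2, hg⟩ := Cfsg.Agent.Ly.Setup.cover n
  have key : R.map (MulAut.conj h1⁻¹).toMonoidHom ≤ (Cfsg.Agent.Ly.Setup.Hs i).map Cfsg.Agent.Ly.Setup.psi := by
    rw [Cfsg.Agent.Ly.Setup.map_eq]
    rintro _ ⟨x, hx, rfl⟩
    refine ⟨?_, ?_⟩
    · exact H.mul_mem (H.mul_mem (H.inv_mem hh1) (hRH hx)) (H.inv_mem (H.inv_mem hh1))
    · have h3 : n⁻¹ * x * n ∈ R := by
        have h4 := (mem_normalizer_iff.1 hn (n⁻¹ * x * n)).2 (by
          have h5 : n * (n⁻¹ * x * n) * n⁻¹ = x := by group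
          rw [h5]
          exact hx)
        exact h4
      refine ⟨h2 * (n⁻¹ * x * n) * h2⁻¹, mul_mem (mul_mem hh2 (hRH h3)) (inv_mem hh2), ?_⟩
      show Cfsg.Agent.Ly.Setup.w i * (h2 * (n⁻¹ * x * n) * h2⁻¹) * (Cfsg.Agent.Ly.Setup.w i)⁻¹ = h1⁻¹ * x * h1⁻¹⁻¹
      rw [hg]
      group
  have h3 := card_dvd_of_le key
  rw [card_map_of_injective (MulAut.conj h1⁻¹).injective, Cfsg.Agent.Ly.Setup.card_map, Cfsg.Agent.Ly.Setup.card_Hs, hR] at h3
  have hi : i = 0 := by
    revert h3
    revert i
    have : ∀ i : Fin 5, 31 ∣ Cfsg.Agent.Ly.Cent.nn i → i = 0 := by decide +kernel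
    intro i _ _ h
    exact this i h
  subst hi
  rw [hg, Cfsg.Agent.Ly.Setup.w_zero, mul_one]
  exact mul_mem hh1 hh2

theorem dvd_of_odd {m a k : ℕ} (hk : m ∣ 2 ^ k * a) (h : ¬ 2 ∣ m) : m ∣ a :=
  (Nat.Coprime.pow_right k ((Nat.Prime.coprime_iff_not_dvd Nat.prime_two).2 h).symm).dvd_of_dvd_mul_left hk

theorem not_sq {r : ℕ} (h : (n_ly % (r ^ 2) != 0) = true) : ¬ r ^ 2 ∣ Nat.card G := by
  rw [card]
  intro h'
  rw [Nat.dvd_iff_mod_eq_zero] at h'
  rw [h'] at h
  exact absurd h (by decide)

theorem na : ¬ ∀ a b : G, a * b = b * a := by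
  intro h
  obtain ⟨L⟩ := exists_mt
  have h1 := card_cent_t L
  have h2 : centralizer ({L.t} : Set G) = ⊤ := by
    rw [eq_top_iff]
    intro x _
    rw [mem_centralizer_singleton_iff]
    exact h _ _
  rw [h2, card_top, card] at h1
  exact absurd h1 (by decide)

/-- the pairs `(|C|, |N|)` for `31` -/
theorem data31 {R : Subgroup G} (hR : Nat.card R = 31) : Nat.card (centralizer (R : Set G)) ∣ 91546875 ∧
    Nat.card (normalizer (R : Set G)) ∣ 183093750 := by
  have := fin
  have := simple
  have h31 : Fact (Nat.Prime 31) := ⟨by norm_num⟩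
  -- a subgroup of order 31 of `H`
  obtain ⟨x, hx⟩ := exists_prime_orderOf_dvd_card' (G := H) 31 (by rw [card_H]; norm_num)
  set R0 : Subgroup G := zpowers (x : G) with hR0
  have hR0c : Nat.card R0 = 31 := by rw [hR0, Nat.card_zpowers, Subgroup.orderOf_coe, hx]
  have hR0H : R0 ≤ H := by rw [hR0, zpowers_le]; exact x.2
  have hN := normalizer_le hR0c hR0H
  have hC : Nat.card (centralizer (R0 : Set G)) ∣ 91546875 := by
    refine dvd_of_odd (k := 6) ?_ (odd_cent (by norm_num) (by norm_num) hR0c)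
    have h1 := card_dvd_of_le ((Subgroup.centralizer_le_normalizer (R0 : Set G)).trans hN)
    rw [card_H] at h1
    exact h1.trans (by norm_num)
  have hC' : Nat.card (centralizer (R0 : Set G)) ∣ prodl [(3, 3), (5, 6), (7, 1), (31, 1)] := by
    refine hC.trans (by decide +kernel)
  -- Sylow's theorem in `H`
  have hRs : Nat.card (R0.subgroupOf H) = 31 := by
    rw [Nat.card_congr (subgroupOfEquivOfLe hR0H).toEquiv, hR0c]
  obtain ⟨s, hs, hs1⟩ := H904.SylOne.card_normalizer_mod hRs (by rw [card_H]; norm_num)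
  have hNH : Nat.card (normalizer ((R0.subgroupOf H : Subgroup H) : Set H)) = Nat.card (normalizer (R0 : Set G)) := by
    have h1 : (normalizer ((R0.subgroupOf H : Subgroup H) : Set H)).map H.subtype = normalizer (R0 : Set G) := by
      ext y
      rw [mem_map]
      constructor
      · rintro ⟨z, hz, rfl⟩
        rw [mem_normalizer_iff]
        intro w
        constructor
        · intro hw
          have h2 := (mem_normalizer_iff.1 hz ⟨w, hR0H hw⟩).1 (mem_subgroupOf.2 hw)
          exact mem_subgroupOf.1 h2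
        · intro hw
          have h3 : H.subtype z * w * (H.subtype z)⁻¹ ∈ H := hR0H hw
          have h4 : w ∈ H := by
            have h5 := mul_mem (mul_mem (inv_mem z.2) h3) z.2
            have h6 : (z : G)⁻¹ * (H.subtype z * w * (H.subtype z)⁻¹) * z = w := by
              show (z : G)⁻¹ * ((z : G) * w * (z : G)⁻¹) * z = w
              group
            rwa [h6] at h5
          have h2 := (mem_normalizer_iff.1 hz ⟨w, h4⟩).2 (mem_subgroupOf.2 hw)
          exact mem_subgroupOf.1 h2
      · intro hy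
        refine ⟨⟨y, hN hy⟩, ?_, rfl⟩
        rw [mem_normalizer_iff]
        intro w
        exact mem_normalizer_iff.1 hy w
    rw [← h1, card_map_of_injective H.subtype_injective]
  rw [card_H, hNH] at hs
  -- the condition
  have h2 := cnP_sound na card (r := 31) (by decide +kernel) (by decide +kernel) (by decide +kernel) hR0c hC'
    (P := fun c m => 5859000000 % m != 0 || (5859000000 / m) % 31 != 1 || (91546875 % c == 0 && 183093750 % m == 0))
    (by decide +kernel) hR0c
  have hNpos : 0 < Nat.card (normalizer (R0 : Set G)) := Nat.card_pos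
  have h3 : 5859000000 % Nat.card (normalizer (R0 : Set G)) = 0 := Nat.mod_eq_zero_of_dvd ⟨s, hs⟩
  have h4 : 5859000000 / Nat.card (normalizer (R0 : Set G)) = s := Nat.div_eq_of_eq_mul_right hNpos hs
  have h5 : s % 31 = 1 := hs1
  rw [h3, h4, h5] at h2
  simp only [bne_self_eq_false, Bool.false_or, Bool.and_eq_true, beq_iff_eq] at h2
  -- all subgroups of order 31
  have h31' := not_sq (r := 31) (by decide +kernel)
  obtain ⟨S, hS⟩ := H904.SylOne.exists_sylow hR h31'
  obtain ⟨S', hS'⟩ := H904.SylOne.exists_sylow hR0c h31'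
  have hCe := H904.SylOne.card_centralizer_eq hR hR0c h31'
  have hNe : Nat.card (normalizer (R : Set G)) = Nat.card (normalizer (R0 : Set G)) := by
    rw [← hS, ← hS']
    have e1 := Sylow.card_eq_index_normalizer S
    have e2 := Sylow.card_eq_index_normalizer S'
    have e3 := card_mul_index (normalizer ((S : Subgroup G) : Set G))
    have e4 := card_mul_index (normalizer ((S' : Subgroup G) : Set G))
    have e5 : (normalizer ((S : Subgroup G) : Set G)).index = (normalizer ((S' : Subgroup G) : Set G)).index := e1.symm.trans e2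
    rw [e5, ← e4] at e3
    exact Nat.eq_of_mul_eq_mul_right (Nat.pos_of_ne_zero index_ne_zero_of_finite) e3
  rw [hCe, hNe]
  exact ⟨Nat.dvd_of_mod_eq_zero h2.1, Nat.dvd_of_mod_eq_zero h2.2⟩

/-! ### the primes 37 and 67 -/

theorem isol37 (B : Base) : Isol G 37 := by
  have := fin
  have := simple
  exact isol_of na v_ly card (ords_ly B) (by decide +kernel) (by decide +kernel) (by decide +kernel)

theorem isol67 (B : Base) : Isol G 67 := by
  have := fin
  have := simple
  exact isol_of na v_ly card (ords_ly B) (by decide +kernel) (by decide +kernel) (by decide +kernel)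

theorem no_p {r p : ℕ} (I : Isol G r) (hrd : ¬ r ∣ 39916800) (h8 : ¬ 8 ∣ r - 1) (hp : p.Prime) (hpr : ¬ p ∣ r - 1)
    {Q : Subgroup G} (hQ : Nat.card Q = p) (hQ8 : 8 ∣ Nat.card (normalizer (Q : Set G))) {R : Subgroup G}
    (hR : Nat.card R = r) : ¬ p ∣ Nat.card (centralizer (R : Set G)) := by
  intro hd
  have := I.fin
  have := Fact.mk I.pr
  have h1 := I.card_normalizer_dvd hp hpr hR hd (Q := Q) (IsPGroup.of_card (n := 1) (by rw [hQ, pow_one])) (by
    rintro rfl
    rw [card_bot] at hQ
    exact hp.one_lt.ne hQ)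
  obtain ⟨e, he, hN⟩ := H904.SylOne.card_nc hR
  rw [hN] at h1
  have hodd := odd_cent I.pr hrd hR
  have h2 : Nat.Coprime 8 (Nat.card (centralizer (R : Set G))) :=
    Nat.Coprime.pow_left 3 ((Nat.Prime.coprime_iff_not_dvd Nat.prime_two).2 hodd)
  exact h8 ((h2.dvd_of_dvd_mul_left (hQ8.trans h1)).trans he)

/-- a subgroup of order `q` in the centralizer -/
theorem exists_cent {q r : ℕ} (hq : q.Prime) {R : Subgroup G} (hR : Nat.card R = r) (hd : q ∣ Nat.card (centralizer (R : Set G))) :
    ∃ Q : Subgroup G, Nat.card Q = q ∧ r ∣ Nat.card (centralizer (Q : Set G)) := by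
  have := fin
  have := Fact.mk hq
  obtain ⟨y, hy⟩ := exists_prime_orderOf_dvd_card' q hd
  refine ⟨zpowers (y : G), by rw [Nat.card_zpowers, Subgroup.orderOf_coe, hy], ?_⟩
  rw [← hR]
  refine card_dvd_of_le ?_
  intro x hx
  rw [mem_centralizer_iff]
  rintro _ ⟨i, rfl⟩
  have h1 : Commute (y : G) x := ((mem_centralizer_iff.1 y.2) x hx).symm
  exact (h1.zpow_left i).eq

theorem no31 {r : ℕ} (hr : ¬ r ∣ 91546875) {R : Subgroup G} (hR : Nat.card R = r) :
    ¬ 31 ∣ Nat.card (centralizer (R : Set G)) := by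
  intro hd
  obtain ⟨Q, hQ, hQd⟩ := exists_cent (by norm_num) hR hd
  exact hr (hQd.trans (data31 hQ).1)

theorem dvd67 (B : Base) {R : Subgroup G} (hR : Nat.card R = 67) :
    Nat.card (centralizer (R : Set G)) ∣ prodl [(3, 7), (11, 1), (37, 1), (67, 1)] := by
  have I := isol67 B
  obtain ⟨Q5, h5, h5'⟩ := q5
  obtain ⟨Q7, h7, h7'⟩ := q7
  have h := dvd_filter (m := Nat.card (centralizer (R : Set G))) v_ly (by rw [← card]; exact card_subgroup_dvd_card _) [2, 5, 7, 31] (by
    intro p hp
    simp only [List.mem_cons, List.not_mem_nil, or_false] at hp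
    rcases hp with rfl | rfl | rfl | rfl
    · exact odd_cent I.pr (by norm_num) hR
    · exact no_p I (by norm_num) (by norm_num) (by norm_num) (by norm_num) h5 h5' hR
    · exact no_p I (by norm_num) (by norm_num) (by norm_num) (by norm_num) h7 h7' hR
    · exact no31 (by norm_num) hR)
  exact h.trans (by decide +kernel)

theorem loc67 (B : Base) : Loc G ⟨67, 737, [(2, 1), (11, 1), (67, 1)]⟩ := by
  have := fin
  have := simple
  obtain ⟨R, hR⟩ := exists_card_eq (G := G) (r := 67) (by decide +kernel) (by rw [card]; decide +kernel)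
  exact loc_of_cent na card (by decide +kernel) (by decide +kernel) (by decide +kernel) hR (dvd67 B hR) (by decide +kernel)
    (by decide +kernel)

theorem dvd37 (B : Base) {R : Subgroup G} (hR : Nat.card R = 37) :
    Nat.card (centralizer (R : Set G)) ∣ prodl [(3, 7), (37, 1)] := by
  have := fin
  have I := isol37 B
  obtain ⟨Q5, h5, h5'⟩ := q5
  obtain ⟨Q7, h7, h7'⟩ := q7
  have hno5 : ¬ 5 ∣ Nat.card (centralizer (R : Set G)) :=
    no_p I (by norm_num) (by norm_num) (by norm_num) (by norm_num) h5 h5' hR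
  have h := dvd_filter (m := Nat.card (centralizer (R : Set G))) v_ly (by rw [← card]; exact card_subgroup_dvd_card _)
    [2, 5, 7, 11, 31, 67] (by
    intro p hp
    simp only [List.mem_cons, List.not_mem_nil, or_false] at hp
    rcases hp with rfl | rfl | rfl | rfl | rfl | rfl
    · exact odd_cent I.pr (by norm_num) hR
    · exact hno5
    · exact no_p I (by norm_num) (by norm_num) (by norm_num) (by norm_num) h7 h7' hR
    · intro hd
      obtain ⟨Q, hQ, hQ'⟩ := q11
      have h1 := I.card_normalizer_dvd (p := 11) (by norm_num) (by norm_num) hR hd (Q := Q)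
        (IsPGroup.of_card (n := 1) (by rw [hQ, pow_one])) (by
          rintro rfl
          rw [card_bot] at hQ
          exact absurd hQ (by norm_num))
      have := Fact.mk I.pr
      obtain ⟨e, he, hN⟩ := H904.SylOne.card_nc hR
      rw [hN] at h1
      have h2 : 5 ∣ Nat.card (centralizer (R : Set G)) * e := (by norm_num : 5 ∣ 10).trans (hQ'.trans h1)
      rcases (Nat.Prime.dvd_mul (by norm_num : Nat.Prime 5)).1 h2 with h3 | h3
      · exact hno5 h3
      · exact absurd (h3.trans he) (by norm_num)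
    · exact no31 (by norm_num) hR
    · intro hd
      obtain ⟨Q, hQ, hQd⟩ := exists_cent (by norm_num) hR hd
      exact absurd (hQd.trans ((loc67 B).2.2.2 Q hQ).1) (by norm_num))
  exact h.trans (by decide +kernel)

theorem loc37 (B : Base) : Loc G ⟨37, 333, [(2, 1), (3, 2), (37, 1)]⟩ := by
  have := fin
  have := simple
  obtain ⟨R, hR⟩ := exists_card_eq (G := G) (r := 37) (by decide +kernel) (by rw [card]; decide +kernel)
  exact loc_of_cent na card (by decide +kernel) (by decide +kernel) (by decide +kernel) hR (dvd37 B hR) (by decide +kernel)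
    (by decide +kernel)

theorem loc31 : Loc G ⟨31, 91546875, [(2, 1), (3, 3), (5, 6), (7, 1), (31, 1)]⟩ := by
  refine loc_of_eq card (by decide +kernel) (by decide +kernel) (by decide +kernel) fun R hR => ?_
  obtain ⟨h1, h2⟩ := data31 hR
  exact ⟨h1, h2.trans (by decide +kernel)⟩

end Cfsg.Agent.H493.Sep.LyLoc
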