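import Cfsg.Agent.H493.Sep.Iso
import Cfsg.Agent.H940.EngData
import Cfsg.Agent.TypeM.FactsLy
import Cfsg.Agent.Ly.Setup

/-!
# Local data of the Lyons group at the primes 31, 37, 67 (helper493)
-/

set_option autoImplicit false
set_option maxRecDepth 100000

namespace Cfsg.Agent.H493.Sep.LyLoc

open Subgroup Equiv Cfsg.Agent.OrdDiv Cfsg.Agent.H940 Cfsg.Agent.H940.Eng Cfsg.Agent.H940.Eng.D Cfsg.Agent.TypeM.Two
  Cfsg.Agent.SporRec.TwoAn

/-! ### lifts of elements of `A_n` -/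

section lift

variable {G : Type*} [Group G] {n : ℕ} (L : MT n G)

include L in
theorem exists_lift {σ : Perm (Fin n)} (hσ : σ ∈ alternatingGroup (Fin n)) :
    ∃ y : centralizer ({L.t} : Set G), L.K.π y = σ := by
  rw [← L.K.range_eq] at hσ
  exact hσ

theorem z_comm (y : centralizer ({L.t} : Set G)) : L.K.z * y = y * L.K.z := by
  apply Subtype.ext
  rw [Subgroup.coe_mul, Subgroup.coe_mul, L.hz]
  exact (L.mem_iff.1 y.2).symm

theorem exists_lift_order {p : ℕ} (hp : p.Prime) (hp2 : p ≠ 2) {σ : Perm (Fin n)} (hσ : σ ∈ alternatingGroup (Fin n))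
    (ho : orderOf σ = p) : ∃ y : centralizer ({L.t} : Set G), L.K.π y = σ ∧ orderOf y = p := by
  obtain ⟨y, hy⟩ := exists_lift L hσ
  have hodd : Odd p := hp.odd_of_ne_two hp2
  have h1 : L.K.π (y ^ p) = 1 := by rw [map_pow, hy, ← ho, pow_orderOf_eq_one]
  have hne : ∀ w : centralizer ({L.t} : Set G), L.K.π w = σ → w ^ p = 1 → orderOf w = p := by
    intro w hw h
    have := Fact.mk hp
    refine orderOf_eq_prime h ?_
    rintro rfl
    rw [map_one] at hw
    rw [← hw, orderOf_one] at ho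
    exact hp.one_lt.ne ho
  rcases (L.K.ker _).1 h1 with h | h
  · exact ⟨y, hy, hne y hy h⟩
  · refine ⟨L.K.z * y, ?_, hne _ ?_ ?_⟩
    · rw [map_mul, L.K.π_z, one_mul, hy]
    · rw [map_mul, L.K.π_z, one_mul, hy]
    · have h2 : Commute L.K.z y := z_comm L y
      rw [h2.mul_pow, h]
      obtain ⟨m, rfl⟩ := hodd
      rw [pow_succ, pow_mul, L.K.z_pow_two, one_pow, one_mul, L.K.z_mul_z]

theorem card_ker : Nat.card L.K.π.ker = 2 := by
  have h1 : (L.K.π.ker : Set (centralizer ({L.t} : Set G))) = {1, L.K.z} := by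
    ext x
    rw [SetLike.mem_coe, MonoidHom.mem_ker, L.K.ker, Set.mem_insert_iff, Set.mem_singleton_iff]
  have h2 : Nat.card L.K.π.ker = (L.K.π.ker : Set (centralizer ({L.t} : Set G))).ncard := rfl
  rw [h2, h1, Set.ncard_pair L.K.z_ne.symm]

theorem card_comap (D : Subgroup (Perm (Fin n))) (hD : D ≤ alternatingGroup (Fin n)) :
    Nat.card (D.comap L.K.π) = 2 * Nat.card D := by
  set E := D.comap L.K.π with hE
  let f : E →* Perm (Fin n) := L.K.π.comp E.subtype
  have h1 := card_mul_index f.ker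
  rw [index_ker] at h1
  have h2 : f.range = D := by
    ext x
    constructor
    · rintro ⟨y, rfl⟩
      exact y.2
    · intro hx
      obtain ⟨y, hy⟩ := exists_lift L (hD hx)
      exact ⟨⟨y, by rw [hE, mem_comap, hy]; exact hx⟩, hy⟩
  have h3 : f.ker.map E.subtype = L.K.π.ker := by
    ext x
    rw [mem_map]
    constructor
    · rintro ⟨y, hy, rfl⟩
      exact hy
    · intro hx
      refine ⟨⟨x, ?_⟩, hx, rfl⟩
      rw [hE, mem_comap, MonoidHom.mem_ker.1 hx]
      exact D.one_mem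
  have h4 : Nat.card f.ker = 2 := by
    rw [← card_ker L, ← h3, card_map_of_injective E.subtype_injective]
  rw [h4, h2] at h1
  exact h1.symm

include L in
/-- the normalizer of a lift -/
theorem exists_normalizer [Finite G] {p m k : ℕ} (hp : p.Prime) (hp2 : p ≠ 2) {σ δ : Perm (Fin n)} (hσ : σ ∈ alternatingGroup (Fin n))
    (hδ : δ ∈ alternatingGroup (Fin n)) (ho : orderOf σ = p) (hm : orderOf δ = m) (hk : δ * σ * δ⁻¹ = σ ^ k) :
    ∃ Q : Subgroup G, Nat.card Q = p ∧ 2 * m ∣ Nat.card (normalizer (Q : Set G)) := by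
  obtain ⟨y, hy, hyo⟩ := exists_lift_order L hp hp2 hσ ho
  have hyo' : orderOf (y : G) = p := by rw [Subgroup.orderOf_coe, hyo]
  refine ⟨zpowers (y : G), by rw [Nat.card_zpowers, hyo'], ?_⟩
  have hD : zpowers δ ≤ alternatingGroup (Fin n) := by rwa [zpowers_le]
  have h1 := card_comap L (zpowers δ) hD
  rw [Nat.card_zpowers, hm] at h1
  rw [← h1, ← card_map_of_injective (centralizer ({L.t} : Set G)).subtype_injective]
  refine card_dvd_of_le ?_
  -- everything in the preimage normalizes `⟨y⟩`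
  have key : ∀ d : centralizer ({L.t} : Set G), L.K.π d ∈ zpowers δ → ∃ j : ℕ, d * y * d⁻¹ = y ^ j := by
    intro d hd
    have hfin : Finite (zpowers δ) := inferInstance
    have h2 : ∀ i : ℕ, ∃ j : ℕ, δ ^ i * σ * (δ ^ i)⁻¹ = σ ^ j := by
      intro i
      induction i with
      | zero => exact ⟨1, by simp⟩
      | succ i ih =>
        obtain ⟨j, hj⟩ := ih
        refine ⟨k * j, ?_⟩
        have h3 : δ ^ (i + 1) * σ * (δ ^ (i + 1))⁻¹ = δ * (δ ^ i * σ * (δ ^ i)⁻¹) * δ⁻¹ := by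
          rw [pow_succ']
          group
        rw [h3, hj, ← conj_pow, hk, ← pow_mul]
    obtain ⟨i, hi⟩ : ∃ i : ℕ, δ ^ i = L.K.π d := by
      have := (isOfFinOrder_of_finite δ).mem_zpowers_iff_mem_range_orderOf.1 hd
      simp only [Finset.mem_image, Finset.mem_range] at this
      obtain ⟨i, -, hi⟩ := this
      exact ⟨i, hi⟩
    obtain ⟨j, hj⟩ := h2 i
    rw [hi] at hj
    refine ⟨j, ?_⟩
    have h4 : L.K.π (d * y * d⁻¹ * (y ^ j)⁻¹) = 1 := by
      rw [map_mul, map_mul, map_mul, map_inv, map_inv, map_pow, hy, hj, mul_inv_cancel]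
    rcases (L.K.ker _).1 h4 with h5 | h5
    · exact mul_inv_eq_one.1 h5
    · exfalso
      have h6 : d * y * d⁻¹ = L.K.z * y ^ j := by rw [← h5]; group
      have h7 : (d * y * d⁻¹) ^ p = 1 := by rw [conj_pow, ← hyo, pow_orderOf_eq_one]; group
      have h8 : Commute L.K.z (y ^ j) := z_comm L (y ^ j)
      rw [h6, h8.mul_pow, ← pow_mul, mul_comm j p, pow_mul, ← hyo, pow_orderOf_eq_one, one_pow, mul_one, hyo] at h7
      obtain ⟨m, hm⟩ := hp.odd_of_ne_two hp2
      rw [hm, pow_succ, pow_mul, L.K.z_pow_two, one_pow, one_mul] at h7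
      exact L.K.z_ne h7
  rintro _ ⟨d, hd, rfl⟩
  have hsub : ∀ d : centralizer ({L.t} : Set G), L.K.π d ∈ zpowers δ → ∀ x ∈ zpowers (y : G), (d : G) * x * (d : G)⁻¹ ∈ zpowers (y : G) := by
    rintro d hd _ ⟨i, rfl⟩
    obtain ⟨j, hj⟩ := key d hd
    have h2 : (d : G) * (y : G) * (d : G)⁻¹ = (y : G) ^ j := congrArg (fun w : centralizer ({L.t} : Set G) => (w : G)) hj
    show (d : G) * (y : G) ^ i * (d : G)⁻¹ ∈ zpowers (y : G)
    rw [← conj_zpow, h2]
    exact (zpowers (y : G)).zpow_mem ((zpowers (y : G)).pow_mem (mem_zpowers _) j) i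
  rw [mem_normalizer_iff]
  intro x
  refine ⟨fun hx => hsub d hd x hx, fun hx => ?_⟩
  have h2 := hsub d⁻¹ (by rw [map_inv]; exact inv_mem hd) _ hx
  have h3 : ((d⁻¹ : centralizer ({L.t} : Set G)) : G) * ((d : G) * x * (d : G)⁻¹) * (((d⁻¹ : centralizer ({L.t} : Set G)) : G))⁻¹ = x := by
    push_cast
    group
  rw [show (centralizer ({L.t} : Set G)).subtype d = (d : G) from rfl, h3] at h2
  exact h2

end lift

/-! ### concrete permutations -/

def s5 : Perm (Fin 11) := swap 0 1 * swap 1 2 * swap 2 3 * swap 3 4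
def d5 : Perm (Fin 11) := swap 5 6 * swap 6 7 * swap 7 8 * swap 9 10
def s7 : Perm (Fin 11) := swap 0 1 * swap 1 2 * swap 2 3 * swap 3 4 * swap 4 5 * swap 5 6
def d7 : Perm (Fin 11) := swap 1 6 * swap 2 5 * swap 3 4 * (swap 7 8 * swap 8 9 * swap 9 10)
def s11 : Perm (Fin 11) := swap 0 1 * swap 1 2 * swap 2 3 * swap 3 4 * swap 4 5 * swap 5 6 * swap 6 7 * swap 7 8 * swap 8 9 * swap 9 10
def d11 : Perm (Fin 11) := (swap 1 3 * swap 3 9 * swap 9 5 * swap 5 4) * (swap 2 6 * swap 6 7 * swap 7 10 * swap 10 8)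

theorem mem5 : s5 ∈ alternatingGroup (Fin 11) ∧ d5 ∈ alternatingGroup (Fin 11) := by
  constructor <;> rw [Perm.mem_alternatingGroup] <;> decide +kernel
theorem mem7 : s7 ∈ alternatingGroup (Fin 11) ∧ d7 ∈ alternatingGroup (Fin 11) := by
  constructor <;> rw [Perm.mem_alternatingGroup] <;> decide +kernel
theorem mem11 : s11 ∈ alternatingGroup (Fin 11) ∧ d11 ∈ alternatingGroup (Fin 11) := by
  constructor <;> rw [Perm.mem_alternatingGroup] <;> decide +kernel

theorem o5 : orderOf s5 = 5 ∧ orderOf d5 = 4 ∧ d5 * s5 * d5⁻¹ = s5 ^ 1 := by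
  have : Fact (Nat.Prime 5) := ⟨by norm_num⟩
  refine ⟨orderOf_eq_prime (by decide +kernel) (by decide +kernel), ?_, by decide +kernel⟩
  exact orderOf_eq_prime_pow (p := 2) (n := 1) (by decide +kernel) (by decide +kernel)
theorem o7 : orderOf s7 = 7 ∧ orderOf d7 = 4 ∧ d7 * s7 * d7⁻¹ = s7 ^ 6 := by
  have : Fact (Nat.Prime 7) := ⟨by norm_num⟩
  refine ⟨orderOf_eq_prime (by decide +kernel) (by decide +kernel), ?_, by decide +kernel⟩
  exact orderOf_eq_prime_pow (p := 2) (n := 1) (by decide +kernel) (by decide +kernel)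
theorem o11 : orderOf s11 = 11 ∧ orderOf d11 = 5 ∧ d11 * s11 * d11⁻¹ = s11 ^ 3 := by
  have : Fact (Nat.Prime 11) := ⟨by norm_num⟩
  have : Fact (Nat.Prime 5) := ⟨by norm_num⟩
  exact ⟨orderOf_eq_prime (by decide +kernel) (by decide +kernel), orderOf_eq_prime (by decide +kernel) (by decide +kernel),
    by decide +kernel⟩

/-! ### the Lyons group -/

abbrev G : Type := Cfsg.Spor.Ly

theorem simple : IsSimpleGroup G := Cfsg.Agent.Ly.Setup.isLy'.1
theorem card : Nat.card G = n_ly := Cfsg.Agent.Ly.Setup.card_ly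
theorem fin : Finite G := Nat.finite_of_card_ne_zero (by rw [card]; decide)

theorem exists_mt : Nonempty (MT 11 G) := TypeM.FactsLy.exists_mt_ly

theorem q5 : ∃ Q : Subgroup G, Nat.card Q = 5 ∧ 8 ∣ Nat.card (normalizer (Q : Set G)) := by
  have := fin
  obtain ⟨L⟩ := exists_mt
  exact exists_normalizer L (by norm_num) (by norm_num) mem5.1 mem5.2 o5.1 o5.2.1 o5.2.2

theorem q7 : ∃ Q : Subgroup G, Nat.card Q = 7 ∧ 8 ∣ Nat.card (normalizer (Q : Set G)) := by
  have := fin
  obtain ⟨L⟩ := exists_mt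
  exact exists_normalizer L (by norm_num) (by norm_num) mem7.1 mem7.2 o7.1 o7.2.1 o7.2.2

theorem q11 : ∃ Q : Subgroup G, Nat.card Q = 11 ∧ 10 ∣ Nat.card (normalizer (Q : Set G)) := by
  have := fin
  obtain ⟨L⟩ := exists_mt
  exact exists_normalizer L (by norm_num) (by norm_num) mem11.1 mem11.2 o11.1 o11.2.1 o11.2.2

theorem card_cent_t (L : MT 11 G) : Nat.card (centralizer ({L.t} : Set G)) = 39916800 := by
  have hr : 2 * Nat.card L.K.π.range = 39916800 := by
    rw [L.K.range_eq, two_mul_nat_card_alternatingGroup, Nat.card_perm, Nat.card_fin]; rfl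
  have h1 := L.K.π.ker.card_mul_index
  rw [card_ker L, index_ker] at h1
  rw [← h1]
  exact hr

/-- the centralizers of the subgroups of order `31, 37, 67` have odd order -/
theorem odd_cent {r : ℕ} (hr : r.Prime) (hrd : ¬ r ∣ 39916800) {R : Subgroup G} (hR : Nat.card R = r) :
    ¬ 2 ∣ Nat.card (centralizer (R : Set G)) := by
  have := fin
  obtain ⟨L⟩ := exists_mt
  refine not_dvd_cent hr Nat.prime_two hR fun s hs => ?_
  obtain ⟨h1, h2⟩ := Cfsg.Agent.TypeM.Two.MT.sq_of_orderOf hs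
  obtain ⟨g, hg⟩ := L.one s h1 h2
  have h3 : (centralizer ({L.t} : Set G)).map (MulAut.conj g).toMonoidHom = centralizer ({s} : Set G) := by
    ext x
    rw [mem_map, mem_centralizer_singleton_iff]
    constructor
    · rintro ⟨y, hy, rfl⟩
      rw [mem_centralizer_singleton_iff] at hy
      show (g * y * g⁻¹) * s = s * (g * y * g⁻¹)
      rw [← hg]
      have h4 : g * y * g⁻¹ * (g * L.t * g⁻¹) = g * (y * L.t) * g⁻¹ := by group
      have h5 : g * L.t * g⁻¹ * (g * y * g⁻¹) = g * (L.t * y) * g⁻¹ := by group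
      rw [h4, h5, hy]
    · intro hx
      refine ⟨g⁻¹ * x * g, ?_, ?_⟩
      · rw [mem_centralizer_singleton_iff]
        have h4 : L.t = g⁻¹ * s * g := by rw [← hg]; group
        rw [h4]
        have h5 : g⁻¹ * x * g * (g⁻¹ * s * g) = g⁻¹ * (x * s) * g := by group
        have h6 : g⁻¹ * s * g * (g⁻¹ * x * g) = g⁻¹ * (s * x) * g := by group
        rw [h5, h6, hx]
      · show g * (g⁻¹ * x * g) * g⁻¹ = x
        group
  rw [← h3, card_map_of_injective (MulAut.conj g).injective, card_cent_t L]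
  exact hrd

end Cfsg.Agent.H493.Sep.LyLoc
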